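import Mathlib

/-!
Witt vectors of weakly `ℓ`-cyclic extensions in characteristic `p`.
-/

set_option autoImplicit false

universe u

namespace Groth.Agent.WittCyclicLib

open WittVector Finset

variable {p : ℕ} [Fact p.Prime]

/-- Shift of the coefficients. -/
def shift {R : Type u} (x : WittVector p R) (n : ℕ) : WittVector p R :=
  WittVector.mk p fun i => x.coeff (n + i)

theorem shift_eq {R : Type u} [CommRing R] (x : WittVector p R) (n : ℕ) :
    shift x n = teichmuller p (x.coeff n) + verschiebung (shift x (n + 1)) := by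
  ext i
  rw [WittVector.coeff_add_of_disjoint (n := i) _ _ (fun i => by
    rcases i with _ | i
    · exact Or.inr (verschiebung_coeff_zero _)
    · exact Or.inl (teichmuller_coeff_pos p _ _ i.succ_pos))]
  rcases i with _ | i
  · simp [shift, teichmuller_coeff_zero, verschiebung_coeff_zero]
  · rw [teichmuller_coeff_pos p _ _ i.succ_pos, zero_add, verschiebung_coeff_succ]
    simp [shift, Nat.add_assoc, Nat.add_comm, Nat.add_left_comm]

theorem eq_verschiebung_shift {R : Type u} [CommRing R] (x : WittVector p R) (h : x.coeff 0 = 0) :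
    x = verschiebung (shift x 1) := by
  ext i
  rcases i with _ | i
  · rw [verschiebung_coeff_zero, h]
  · rw [verschiebung_coeff_succ]
    simp [shift, Nat.add_comm]

theorem sum_add_shift {R : Type u} [CommRing R] (x : WittVector p R) (N : ℕ) :
    x = ∑ k ∈ range N, (⇑(verschiebung : WittVector p R →+ WittVector p R))^[k] (teichmuller p (x.coeff k)) +
      (⇑(verschiebung : WittVector p R →+ WittVector p R))^[N] (shift x N) := by
  induction N with
  | zero => ext i; simp [shift]
  | succ N ih =>
    conv_lhs => rw [ih, shift_eq x N]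
    rw [iterate_map_add, Finset.sum_range_succ, Function.iterate_succ_apply, add_assoc]

theorem iterate_sum {R : Type u} [CommRing R] {ι : Type*} (s : Finset ι) (g : ι → WittVector p R) : ∀ m,
    (⇑(verschiebung : WittVector p R →+ WittVector p R))^[m] (∑ i ∈ s, g i) =
      ∑ i ∈ s, (⇑(verschiebung : WittVector p R →+ WittVector p R))^[m] (g i)
  | 0 => rfl
  | m + 1 => by simp only [Function.iterate_succ_apply', iterate_sum s g m, map_sum]

theorem eq_zero_of_forall_iterate {R : Type u} [CommRing R] (x : WittVector p R)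
    (h : ∀ N, ∃ z, x = (⇑(verschiebung : WittVector p R →+ WittVector p R))^[N] z) : x = 0 := by
  ext i
  obtain ⟨z, hz⟩ := h (i + 1)
  rw [hz, iterate_verschiebung_coeff_eq_zero z (Nat.lt_succ_self i), zero_coeff]

theorem frobenius_iterate_teichmuller {R : Type u} [CommRing R] [CharP R p] (r : R) (k : ℕ) :
    (⇑(WittVector.frobenius : WittVector p R →+* WittVector p R))^[k] (teichmuller p r) = teichmuller p (r ^ p ^ k) := by
  ext i
  rw [iterate_frobenius_coeff]
  rcases i with _ | i
  · rw [teichmuller_coeff_zero, teichmuller_coeff_zero]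
  · rw [teichmuller_coeff_pos p _ _ i.succ_pos, teichmuller_coeff_pos p _ _ i.succ_pos,
      zero_pow (pow_ne_zero _ (Fact.out : p.Prime).ne_zero)]

variable {A B : Type u} [CommRing A] [CommRing B] [IsDomain A] [IsDomain B] [Algebra A B]
  [CharP A p] [CharP B p]

theorem exists_mem_span_iterate (hinj : Function.Injective (algebraMap A B)) (ℓ : ℕ) (hℓ : 0 < ℓ) (hpℓ : ¬ p ∣ ℓ)
    (y : Finset B) (hspan : Submodule.span A (y : Set B) = ⊤)
    (hpow : ∀ b ∈ y, b ^ ℓ ∈ Set.range (algebraMap A B)) :
    ∃ a : A, a ≠ 0 ∧ ∀ (n : ℕ) (η : WittVector p B),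
      teichmuller p (algebraMap A B a) * (⇑(verschiebung : WittVector p B →+ WittVector p B))^[n] η ∈
        Ideal.span (Set.range fun x : WittVector p A =>
          WittVector.map (algebraMap A B) ((⇑(verschiebung : WittVector p A →+ WittVector p A))^[n] x)) := by
  classical
  let V := (⇑(verschiebung : WittVector p B →+ WittVector p B))
  let f := algebraMap A B
  choose r hr using hpow
  let s : y → A := fun b => if (b : B) = 0 then 1 else r b b.2
  have hs : ∀ b, s b ≠ 0 := fun b h => by
    simp only [s] at h
    split_ifs at h with hb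
    · exact one_ne_zero h
    · exact hb (eq_zero_of_pow_eq_zero (n := ℓ) (by rw [← hr b b.2, h, map_zero]))
  let a : A := ∏ b, s b
  have hcop : ∀ k, (p ^ k).Coprime ℓ := fun k => (((Fact.out : p.Prime).coprime_iff_not_dvd).2 hpℓ).pow_left k
  have hexp : ∀ k, ∃ u v : ℕ, u ≤ ℓ ∧ v ≤ p ^ k ∧ p ^ k * u = 1 + ℓ * v := by
    intro k
    rcases Nat.lt_or_ge 1 ℓ with h1 | h1
    · obtain ⟨m, hml, hm⟩ := Nat.exists_mul_mod_eq_one_of_coprime (hcop k) h1
      refine ⟨m, p ^ k * m / ℓ, hml.le, ?_, by have := Nat.div_add_mod (p ^ k * m) ℓ; omega⟩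
      calc p ^ k * m / ℓ ≤ p ^ k * ℓ / ℓ := Nat.div_le_div_right (Nat.mul_le_mul_left _ hml.le)
        _ = p ^ k := Nat.mul_div_cancel _ hℓ
    · obtain rfl : ℓ = 1 := by omega
      have : 0 < p ^ k := pow_pos (Fact.out : p.Prime).pos k
      exact ⟨1, p ^ k - 1, le_rfl, by omega, by omega⟩
  choose u v hu hv huv using hexp
  -- the scalars
  have hmon : ∀ k (b : y), ∃ e : A, f (a ^ p ^ k) * (b : B) = f e * ((b : B) ^ u k) ^ p ^ k := by
    intro k b
    by_cases hb : (b : B) = 0
    · exact ⟨0, by rw [hb, map_zero, mul_zero, zero_mul]⟩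
    · refine ⟨(∏ c ∈ univ.erase b, s c) ^ p ^ k * s b ^ (p ^ k - v k), ?_⟩
      have hsb : f (s b) = (b : B) ^ ℓ := by
        simp only [s, if_neg hb]
        exact hr b b.2
      have ha : a = (∏ c ∈ univ.erase b, s c) * s b := by
        rw [mul_comm]
        exact (Finset.mul_prod_erase univ s (Finset.mem_univ b)).symm
      rw [ha, ← pow_mul, mul_comm (u k), huv, mul_pow, map_mul, map_mul, map_pow f (s b) (p ^ k - v k), map_pow f (s b) (p ^ k), hsb,
        ← pow_mul, ← pow_mul, mul_assoc, mul_assoc, ← pow_add, ← pow_succ]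
      congr 2
      have := Nat.sub_add_cancel (hv k)
      nlinarith [this]
  choose e he using hmon
  have hcoef : ∀ x : B, ∃ d : y → A, ∑ b, f (d b) * (b : B) = x := fun x => by
    have hx : x ∈ Submodule.span A (Set.range (fun b : y => (b : B))) := by
      rw [Subtype.range_coe_subtype]
      exact (show Submodule.span A {b | b ∈ y} = ⊤ from hspan) ▸ Submodule.mem_top
    obtain ⟨d, hd⟩ := (Submodule.mem_span_range_iff_exists_fun _).1 hx
    exact ⟨d, by simpa [Algebra.smul_def] using hd⟩
  choose d hd using hcoef
  -- one step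
  let T := y × Fin (ℓ + 1)
  let τ : T → WittVector p B := fun t => teichmuller p ((t.1 : B) ^ (t.2 : ℕ))
  have hstep : ∀ k (η : WittVector p B), ∃ (c : T → A) (η' : WittVector p B),
      teichmuller p (f (a ^ p ^ k)) * η =
        ∑ t, teichmuller p (f (c t)) * (⇑(WittVector.frobenius : WittVector p B →+* WittVector p B))^[k] (τ t) +
          verschiebung (teichmuller p (f (a ^ p ^ (k + 1))) * η') := by
    intro k η
    let S := ∑ b, teichmuller p (f (d (η.coeff 0) b)) * teichmuller p (b : B)
    have h0 : (η - S).coeff 0 = 0 := by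
      show constantCoeff (η - S) = 0
      rw [map_sub, sub_eq_zero, map_sum]
      simp only [map_mul, constantCoeff_apply, teichmuller_coeff_zero]
      exact (hd (η.coeff 0)).symm
    refine ⟨fun t => if (t.2 : ℕ) = u k then d (η.coeff 0) t.1 * e k t.1 else 0, shift (η - S) 1, ?_⟩
    conv_lhs => rw [← add_sub_cancel S η, mul_add, eq_verschiebung_shift _ h0]
    congr 1
    · rw [Finset.mul_sum, Fintype.sum_prod_type]
      refine Finset.sum_congr rfl fun b _ => ?_
      rw [Finset.sum_eq_single (⟨u k, Nat.lt_succ_of_le (hu k)⟩ : Fin (ℓ + 1))]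
      · dsimp only
        rw [if_pos rfl, map_mul f, ← map_mul, ← map_mul]
        simp only [τ, frobenius_iterate_teichmuller]
        rw [← map_mul]
        congr 1
        rw [mul_left_comm, he k b, mul_assoc]
      · intro j _ hj
        dsimp only
        rw [if_neg (fun h => hj (Fin.ext h)), map_zero, teichmuller_zero, zero_mul]
      · intro h
        exact absurd (Finset.mem_univ _) h
    · have hF : WittVector.frobenius (teichmuller p (f (a ^ p ^ k))) = teichmuller p (f (a ^ p ^ (k + 1))) := by
        rw [show WittVector.frobenius (teichmuller p (f (a ^ p ^ k))) =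
          (⇑(WittVector.frobenius : WittVector p B →+* WittVector p B))^[1] (teichmuller p (f (a ^ p ^ k))) from rfl,
          frobenius_iterate_teichmuller, ← map_pow, ← pow_mul, pow_one, pow_succ]
      rw [← hF, mul_comm, ← verschiebung_mul_frobenius, mul_comm]
  choose c η' hη using hstep
  refine ⟨a, Finset.prod_ne_zero_iff.2 fun b _ => hs b, fun n η => ?_⟩
  -- the sequence of remainders
  let H : ℕ → WittVector p B := fun j => Nat.rec η (fun j h => η' (n + j) h) j
  let X : T → WittVector p A := fun t => WittVector.mk p fun j => c (n + j) (H j) t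
  suffices h : teichmuller p (f a) * V^[n] η =
      ∑ t, WittVector.map f ((⇑(verschiebung : WittVector p A →+ WittVector p A))^[n] (X t)) * τ t by
    rw [h]
    exact Ideal.sum_mem _ fun t _ => Ideal.mul_mem_right _ _ (Ideal.subset_span ⟨X t, rfl⟩)
  have hmapV : ∀ (m : ℕ) (x : WittVector p A),
      WittVector.map f ((⇑(verschiebung : WittVector p A →+ WittVector p A))^[m] x) = V^[m] (WittVector.map f x) := by
    intro m
    induction m with
    | zero => simp
    | succ m ih =>
      intro x
      rw [Function.iterate_succ_apply', Function.iterate_succ_apply', map_verschiebung, ih]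
  have hN : ∀ N, teichmuller p (f a) * V^[n] η =
      ∑ j ∈ range N, V^[n + j] (∑ t, teichmuller p (f (c (n + j) (H j) t)) *
        (⇑(WittVector.frobenius : WittVector p B →+* WittVector p B))^[n + j] (τ t)) +
        V^[n + N] (teichmuller p (f (a ^ p ^ (n + N))) * H N) := by
    intro N
    induction N with
    | zero =>
      rw [Finset.sum_range_zero, zero_add, Nat.add_zero, mul_comm, iterate_verschiebung_mul_left,
        frobenius_iterate_teichmuller, ← map_pow, mul_comm]
      rfl
    | succ N ih =>
      rw [ih, hη, iterate_map_add, Finset.sum_range_succ, ← Function.iterate_succ_apply, ← add_assoc]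
      rfl
  refine sub_eq_zero.1 (eq_zero_of_forall_iterate _ fun N => ?_)
  refine ⟨V^[n] (teichmuller p (f (a ^ p ^ (n + N))) * H N) - ∑ t, V^[n] (WittVector.map f (shift (X t) N)) *
    (⇑(WittVector.frobenius : WittVector p B →+* WittVector p B))^[N] (τ t), ?_⟩
  rw [hN N, iterate_map_sub, ← Function.iterate_add_apply, Nat.add_comm N n]
  have hX : ∀ t, WittVector.map f ((⇑(verschiebung : WittVector p A →+ WittVector p A))^[n] (X t)) * τ t =
      ∑ j ∈ range N, V^[n + j] (teichmuller p (f (c (n + j) (H j) t)) *
        (⇑(WittVector.frobenius : WittVector p B →+* WittVector p B))^[n + j] (τ t)) +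
        V^[N] (V^[n] (WittVector.map f (shift (X t) N)) *
          (⇑(WittVector.frobenius : WittVector p B →+* WittVector p B))^[N] (τ t)) := by
    intro t
    conv_lhs => rw [sum_add_shift (X t) N]
    rw [iterate_map_add, map_add, add_mul, ← iterate_verschiebung_mul_left]
    congr 1
    · rw [iterate_sum, map_sum, Finset.sum_mul]
      refine Finset.sum_congr rfl fun j _ => ?_
      rw [← Function.iterate_add_apply, hmapV, map_teichmuller, iterate_verschiebung_mul_left]
      simp [X]
      rfl
    · rw [hmapV, hmapV, ← Function.iterate_add_apply, ← Function.iterate_add_apply, Nat.add_comm]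
  rw [Finset.sum_congr rfl fun t _ => hX t, Finset.sum_add_distrib, Finset.sum_comm]
  simp only [V, iterate_sum]
  abel

end Groth.Agent.WittCyclicLib
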